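import Groth.Agent.Torsor.Descent
import Groth.Agent.FpqcDescent.Props
import Mathlib.RingTheory.Unramified.Field
import Mathlib.FieldTheory.PurelyInseparable.Basic
import Mathlib.FieldTheory.IsAlgClosed.AlgebraicClosure
import Mathlib.AlgebraicGeometry.Morphisms.Etale
import Mathlib.AlgebraicGeometry.Sites.Proetale
import Mathlib.Topology.Separation.Connected

/-!
Torsors under finite connected group schemes over a field.
-/

set_option autoImplicit false
set_option backward.isDefEq.respectTransparency false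
set_option linter.style.haveILetI false

universe u

open CategoryTheory CategoryTheory.Limits MonoidalCategory CartesianMonoidalCategory MonObj AlgebraicGeometry

namespace Groth.Agent.TorsorInfin

variable (K : Type u) [Field K]

/-- the space of a finite scheme over a field is discrete -/
lemma discrete_of_finite {Y : Scheme.{u}} (g : Y ⟶ Spec (CommRingCat.of K)) [IsFinite g] :
    DiscreteTopology Y := by
  haveI : IsAffine Y := isAffine_of_isAffineHom g
  let b := Spec.preimage (Y.isoSpec.inv ≫ g)
  haveI : IsFinite (Spec.map b) := by rw [Spec.map_preimage]; infer_instance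
  have hb : b.hom.Finite := (IsFinite.SpecMap_iff b).1 inferInstance
  letI : Algebra K Γ(Y, ⊤) := b.hom.toAlgebra
  haveI : Module.Finite K Γ(Y, ⊤) := hb
  haveI : IsArtinianRing Γ(Y, ⊤) := IsArtinianRing.of_finite K _
  haveI : DiscreteTopology (Spec Γ(Y, ⊤)) := inferInstanceAs (DiscreteTopology (PrimeSpectrum Γ(Y, ⊤)))
  exact Y.isoSpec.hom.homeomorph.symm.discreteTopology

variable {K} {G X : Over (Spec (CommRingCat.of K))} [GrpObj G]

/-- field valued points of a finite connected group are trivial -/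
lemma point_eq_one [IsFinite G.hom] [ConnectedSpace G.left] (Ω : Type u) [Field Ω]
    (ω : Spec (CommRingCat.of Ω) ⟶ Spec (CommRingCat.of K)) (g : Over.mk ω ⟶ G) : g = 1 := by
  haveI := discrete_of_finite K G.hom
  haveI : Subsingleton G.left := PreconnectedSpace.trivial_of_discrete
  haveI : IsClosedImmersion η[G].left := by
    haveI : IsSeparated G.hom := inferInstance
    haveI : IsClosedImmersion (η[G].left ≫ G.hom) := by rw [Over.w η[G]]; exact inferInstanceAs (IsClosedImmersion (𝟙 _))
    exact IsClosedImmersion.of_comp η[G].left G.hom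
  haveI : IsReduced (Over.mk ω).left := inferInstanceAs (IsReduced (Spec (CommRingCat.of Ω)))
  let q := pullback.snd η[G].left g.left
  haveI : Surjective q := ⟨fun z => by
    obtain ⟨p, -, hp⟩ := Scheme.Pullback.exists_preimage_pullback (f := η[G].left) (g := g.left)
      (ω.base z) z (Subsingleton.elim _ _)
    exact ⟨p, hp⟩⟩
  haveI : IsIso q := isIso_of_isClosedImmersion_of_surjective q
  let h := inv q ≫ pullback.fst η[G].left g.left
  have hh : h ≫ η[G].left = g.left := by
    simp only [h, Category.assoc, pullback.condition]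
    exact IsIso.inv_hom_id_assoc _ _
  have hω : h = ω := by
    have e := congrArg (· ≫ G.hom) hh
    simp only [Category.assoc, Over.w η[G]] at e
    exact ((Category.comp_id h).symm.trans e).trans (Over.w g)
  apply Over.OverMorphism.ext
  rw [← hh, hω, Hom.one_def]
  rfl

/-- field valued points of the torsor over the same point are equal -/
lemma point_unique [IsFinite G.hom] [ConnectedSpace G.left] {a : AlgGrp.Action G X}
    (ha : NonAbH1.IsPseudoTorsorSch a) (Ω : Type u) [Field Ω] (x y : Spec (CommRingCat.of Ω) ⟶ X.left)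
    (h : x ≫ X.hom = y ≫ X.hom) : x = y := by
  let x' : Over.mk (x ≫ X.hom) ⟶ X := Over.homMk x rfl
  let y' : Over.mk (x ≫ X.hom) ⟶ X := Over.homMk y h.symm
  obtain ⟨c, hc, -⟩ := (Groth.Agent.Torsor.isPseudoTorsor_iff a).1 ha _ x' y'
  rw [point_eq_one Ω _ c, Groth.Agent.Torsor.one_smul] at hc
  exact congrArg CommaMorphism.left hc

/-- the main criterion: a field valued point whose field is separable -/
theorem hasSection_of [IsFinite G.hom] [ConnectedSpace G.left] {a : AlgGrp.Action G X}
    (ha : NonAbH1.IsPseudoTorsorSch a) (B : Type u) [CommRing B] (j : Spec (CommRingCat.of B) ⟶ X.left) [IsIso j]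
    (m : Ideal B) [m.IsMaximal] (hsep : ∀ (_ : Algebra K (B ⧸ m)),
      Spec.map (CommRingCat.ofHom (Ideal.Quotient.mk m)) ≫ j ≫ X.hom =
        Spec.map (CommRingCat.ofHom (algebraMap K (B ⧸ m))) → Algebra.IsSeparable K (B ⧸ m)) :
    NonAbH1.HasSectionOver X (𝟙 (Spec (CommRingCat.of K))) := by
  letI := Ideal.Quotient.field m
  let L := B ⧸ m
  let p : Spec (CommRingCat.of L) ⟶ X.left := Spec.map (CommRingCat.ofHom (Ideal.Quotient.mk m)) ≫ j
  haveI : IsClosedImmersion (Spec.map (CommRingCat.ofHom (Ideal.Quotient.mk m))) :=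
    IsClosedImmersion.spec_of_surjective _ Ideal.Quotient.mk_surjective
  haveI : Mono p := inferInstance
  let c := Spec.preimage (p ≫ X.hom)
  letI : Algebra K L := c.hom.toAlgebra
  have hc : Spec.map (CommRingCat.ofHom (algebraMap K L)) = p ≫ X.hom := Spec.map_preimage _
  haveI := hsep _ (by rw [← Category.assoc]; exact hc.symm)
  haveI : Subsingleton (Field.Emb K L) := ⟨fun f g => by
    have key := point_unique ha (AlgebraicClosure L) (Spec.map (CommRingCat.ofHom f.toRingHom) ≫ p)
      (Spec.map (CommRingCat.ofHom g.toRingHom) ≫ p) (by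
        have e : ∀ h : L →ₐ[K] AlgebraicClosure L, (Spec.map (CommRingCat.ofHom h.toRingHom) ≫ p) ≫ X.hom =
            Spec.map (CommRingCat.ofHom (algebraMap K (AlgebraicClosure L))) := fun h => by
          refine (Category.assoc _ _ _).trans ?_
          refine (congrArg (Spec.map (CommRingCat.ofHom h.toRingHom) ≫ ·) hc.symm).trans ?_
          rw [← Spec.map_comp, ← CommRingCat.ofHom_comp]
          exact congrArg (fun t => Spec.map (CommRingCat.ofHom t)) h.comp_algebraMap
        exact (e f).trans (e g).symm)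
    rw [cancel_mono] at key
    exact AlgHom.coe_ringHom_injective (congrArg CommRingCat.Hom.hom (Spec.map_injective key))⟩
  haveI : IsPurelyInseparable K L := (isPurelyInseparable_iff_subsingleton_emb K L).2 inferInstance
  let e : K ≃+* L := RingEquiv.ofBijective (algebraMap K L)
    ⟨(algebraMap K L).injective, IsPurelyInseparable.surjective_algebraMap_of_isSeparable K L⟩
  refine ⟨Spec.map (CommRingCat.ofHom (e.symm : L →+* K)) ≫ p, ?_⟩
  rw [Category.assoc, ← hc, ← Spec.map_comp, ← Spec.map_id]
  congr 1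
  exact CommRingCat.hom_ext (RingHom.ext fun r => e.symm_apply_apply r)

theorem finite_quotient {B : Type u} [CommRing B] (m : Ideal B) (f : Spec (CommRingCat.of B) ⟶ Spec (CommRingCat.of K))
    [IsFinite f] [Algebra K (B ⧸ m)]
    (h : Spec.map (CommRingCat.ofHom (Ideal.Quotient.mk m)) ≫ f = Spec.map (CommRingCat.ofHom (algebraMap K (B ⧸ m)))) :
    Module.Finite K (B ⧸ m) := by
  haveI : IsClosedImmersion (Spec.map (CommRingCat.ofHom (Ideal.Quotient.mk m))) :=
    IsClosedImmersion.spec_of_surjective _ Ideal.Quotient.mk_surjective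
  haveI : IsFinite (Spec.map (CommRingCat.ofHom (algebraMap K (B ⧸ m)))) := by rw [← h]; infer_instance
  exact RingHom.finite_algebraMap.1 ((IsFinite.SpecMap_iff _).1 this)

theorem fppf_perfect [PerfectField K] [IsFinite G.hom] [ConnectedSpace G.left] {a : AlgGrp.Action G X}
    (h : NonAbH1.IsTorsorFor Scheme.fpqcPrecoverage a) : NonAbH1.HasSectionOver X (𝟙 (Spec (CommRingCat.of K))) := by
  haveI : IsFinite X.hom := Groth.Agent.Torsor.of_isTorsorFor h (@IsFinite : MorphismProperty Scheme.{u}) inferInstance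
  haveI : Surjective X.hom := Groth.Agent.Torsor.surjective_of_isTorsorFor h
  haveI : IsAffine X.left := isAffine_of_isAffineHom X.hom
  haveI : Nontrivial Γ(X.left, ⊤) := by
    obtain ⟨x, -⟩ := X.hom.surjective (IsLocalRing.closedPoint K)
    exact PrimeSpectrum.nontrivial (X.left.isoSpec.hom.base x)
  obtain ⟨m, hm⟩ := Ideal.exists_maximal Γ(X.left, ⊤)
  letI := Ideal.Quotient.field m
  refine hasSection_of h.1 _ X.left.isoSpec.inv m fun _ he => ?_
  haveI := finite_quotient m (X.left.isoSpec.inv ≫ X.hom) he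
  infer_instance

theorem etale_case [IsFinite G.hom] [ConnectedSpace G.left] {a : AlgGrp.Action G X}
    (h : NonAbH1.IsTorsorFor Scheme.etalePrecoverage a) : NonAbH1.HasSectionOver X (𝟙 (Spec (CommRingCat.of K))) := by
  have hfp : NonAbH1.IsTorsorFor Scheme.fpqcPrecoverage a := by
    obtain ⟨h1, R, hR, hs⟩ := h
    exact ⟨h1, R, Scheme.proetalePrecoverage_le_fpqcPrecoverage _ (Scheme.etalePrecoverage_le_proetalePrecoverage _ hR), hs⟩
  haveI : IsFinite X.hom := Groth.Agent.Torsor.of_isTorsorFor hfp (@IsFinite : MorphismProperty Scheme.{u}) inferInstance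
  haveI : IsAffine X.left := isAffine_of_isAffineHom X.hom
  obtain ⟨ha, R, hR, hs⟩ := h
  obtain ⟨I, Q, g, rfl⟩ := R.exists_eq_ofArrows
  rw [Scheme.etalePrecoverage, Scheme.ofArrows_mem_precoverage_iff] at hR
  obtain ⟨i, z, -⟩ := hR.1 (IsLocalRing.closedPoint K)
  haveI : Etale (g i) := hR.2 i
  obtain ⟨σ, hσ⟩ := hs (g i) ⟨i⟩
  obtain ⟨_, ⟨U, hU, rfl⟩, hzU, -⟩ := (Q i).isBasis_affineOpens.exists_subset_of_mem_open (Set.mem_univ z) isOpen_univ
  haveI : Nonempty (U : (Q i).Opens) := ⟨⟨z, hzU⟩⟩
  let c := Spec.preimage (hU.fromSpec ≫ g i)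
  haveI : Etale (Spec.map c) := by rw [Spec.map_preimage]; infer_instance
  letI : Algebra K Γ(Q i, U) := c.hom.toAlgebra
  haveI : Algebra.Etale K Γ(Q i, U) :=
    RingHom.etale_algebraMap.1 ((HasRingHomProperty.Spec_iff (P := @Etale)).1 (inferInstanceAs (Etale (Spec.map c))))
  obtain ⟨n, hn⟩ := Ideal.exists_maximal Γ(Q i, U)
  letI := Ideal.Quotient.field n
  let F := Γ(Q i, U) ⧸ n
  haveI : Algebra.FormallyUnramified K F := Algebra.FormallyUnramified.comp K Γ(Q i, U) F
  haveI : Algebra.EssFiniteType K F := Algebra.EssFiniteType.comp K Γ(Q i, U) F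
  haveI : Algebra.IsSeparable K F := Algebra.FormallyUnramified.isSeparable K F
  let q : Spec (CommRingCat.of F) ⟶ X.left :=
    Spec.map (CommRingCat.ofHom (Ideal.Quotient.mk n)) ≫ hU.fromSpec ≫ σ
  let φ : Γ(X.left, ⊤) ⟶ CommRingCat.of F := Spec.preimage (q ≫ X.left.isoSpec.hom)
  let m := RingHom.ker φ.hom
  let b := Spec.preimage (X.left.isoSpec.inv ≫ X.hom)
  haveI : IsFinite (Spec.map b) := by rw [Spec.map_preimage]; infer_instance
  have hb : b.hom.Finite := (IsFinite.SpecMap_iff b).1 inferInstance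
  letI : Algebra K Γ(X.left, ⊤) := b.hom.toAlgebra
  haveI : Module.Finite K Γ(X.left, ⊤) := hb
  haveI : IsArtinianRing Γ(X.left, ⊤) := IsArtinianRing.of_finite K _
  haveI : m.IsPrime := RingHom.ker_isPrime φ.hom
  haveI : m.IsMaximal := IsArtinianRing.isMaximal_of_isPrime m
  refine hasSection_of ha _ X.left.isoSpec.inv m fun inst he => ?_
  letI := Ideal.Quotient.field m
  let ψ : Γ(X.left, ⊤) ⧸ m →+* F := Ideal.Quotient.lift m φ.hom fun r hr => hr
  have hψ : Spec.map (CommRingCat.ofHom (algebraMap K F)) =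
      Spec.map (CommRingCat.ofHom (ψ.comp (algebraMap K (Γ(X.left, ⊤) ⧸ m)))) := by
    rw [CommRingCat.ofHom_comp, Spec.map_comp, ← he, ← Spec.map_comp_assoc, ← CommRingCat.ofHom_comp,
      show ψ.comp (Ideal.Quotient.mk m) = φ.hom from rfl, CommRingCat.ofHom_hom, Spec.map_preimage,
      Category.assoc, Iso.hom_inv_id_assoc]
    simp only [q, Category.assoc, hσ]
    rw [← Spec.map_preimage (hU.fromSpec ≫ g i), ← Spec.map_comp]
    rfl
  have hψ' := congrArg CommRingCat.Hom.hom (Spec.map_injective hψ)
  exact Algebra.IsSeparable.of_algHom K F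
    { ψ with commutes' := fun r => (RingHom.congr_fun hψ' r).symm }

end Groth.Agent.TorsorInfin
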